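import Cfsg.Agent.Lib.InvChar.CenterFour.Simple
import Cfsg.Agent.Lib.Coprime.MaschkeAbelian
import Cfsg.Agent.Lib.Block.HomocyclicBrauer
import Mathlib

/-!
# Simple groups with abelian Sylow 2-subgroup and an invariant subgroup of index four

If an abelian Sylow 2-subgroup `T` of a nonabelian simple group has a subgroup `R` of index four,
invariant under the normaliser of `T` and containing all squares, then `T` is a four group.
-/

set_option autoImplicit false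
set_option linter.style.haveILetI false

namespace CfsgLib.InvChar.CenterFour

open Subgroup
open scoped IsMulCommutative

universe u

variable {G : Type u} [Group G] [Finite G]

local instance : Fact (Nat.Prime 2) := ⟨Nat.prime_two⟩

/-- Subgroups of an abelian Sylow subgroup invariant under its normaliser are strongly closed. -/
theorem stronglyClosed_of_invariant (T : Sylow 2 G) [IsMulCommutative (T : Subgroup G)]
    {K : Subgroup G} (hKT : K ≤ T)
    (hinv : ∀ n ∈ normalizer ((T : Subgroup G) : Set G), ∀ x ∈ K, n * x * n⁻¹ ∈ K) :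
    Cfsg.IsStronglyClosed K (T : Subgroup G) := by
  refine ⟨hKT, fun x hx g hg => ?_⟩
  obtain ⟨n, hn, he⟩ := T.conj_eq_normalizer_conj_of_mem x g⁻¹ (hKT hx)
    (show g⁻¹⁻¹ * x * g⁻¹ ∈ (T : Subgroup G) by rw [inv_inv]; exact hg)
  rw [inv_inv] at he
  rw [he]
  simpa using hinv n⁻¹ (inv_mem hn) x hx

/-- Maschke inside an abelian Sylow 2-subgroup, for the action of its normaliser. -/
theorem exists_invariant_compl (T : Sylow 2 G) [IsMulCommutative (T : Subgroup G)]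
    {W U : Subgroup G} (hWU : W ≤ U) (hUT : U ≤ T) (hU : ∀ t ∈ U, t ^ 2 = 1)
    (hWi : ∀ n ∈ normalizer ((T : Subgroup G) : Set G), ∀ x ∈ W, n * x * n⁻¹ ∈ W)
    (hUi : ∀ n ∈ normalizer ((T : Subgroup G) : Set G), ∀ x ∈ U, n * x * n⁻¹ ∈ U) :
    ∃ V : Subgroup G, V ≤ U ∧ V ⊓ W = ⊥ ∧ W ⊔ V = U ∧
      ∀ n ∈ normalizer ((T : Subgroup G) : Set G), ∀ x ∈ V, n * x * n⁻¹ ∈ V := by
  set T₀ : Subgroup G := (T : Subgroup G) with hT₀
  set N : Subgroup G := normalizer (T₀ : Set G) with hN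
  have hTN : T₀ ≤ N := le_normalizer
  set M := T₀.subgroupOf N with hM
  haveI : M.Normal := normal_in_normalizer
  have hker : M ≤ T₀.normalizerMonoidHom.ker := by
    rw [normalizerMonoidHom_ker]
    exact fun x hx => mem_subgroupOf.2 (T₀.le_centralizer (mem_subgroupOf.1 hx))
  let ρ : N ⧸ M →* MulAut T₀ := QuotientGroup.lift M T₀.normalizerMonoidHom hker
  have hρ : ∀ (n : N) (t : T₀), (ρ (n : N ⧸ M) t : G) = (n : G) * t * (n : G)⁻¹ := fun _ _ => rfl
  have hX : (Nat.card (N ⧸ M)).Coprime 2 := by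
    rw [← index_eq_card, hM, ← relIndex, Nat.coprime_comm, Nat.prime_two.coprime_iff_not_dvd]
    exact fun h => T.not_dvd_index (h.trans (relIndex_dvd_index_of_le hTN))
  have hlift : ∀ K : Subgroup G,
      (∀ n ∈ normalizer ((T : Subgroup G) : Set G), ∀ x ∈ K, n * x * n⁻¹ ∈ K) →
      ∀ x : N ⧸ M, ∀ t ∈ K.subgroupOf T₀, ρ x t ∈ K.subgroupOf T₀ := by
    intro K hK x t ht
    induction x using QuotientGroup.induction_on with
    | _ n => rw [mem_subgroupOf, hρ]; exact hK n n.2 _ (mem_subgroupOf.1 ht)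
  obtain ⟨V, hVU, hVW, hsup, hVi⟩ := CfsgLib.Coprime.exists_invariant_compl Nat.prime_two ρ hX
    (T := U.subgroupOf T₀) (W := W.subgroupOf T₀)
    (fun t ht => Subtype.ext (hU _ (mem_subgroupOf.1 ht)))
    (fun t ht => mem_subgroupOf.2 (hWU (mem_subgroupOf.1 ht))) (hlift U hUi) (hlift W hWi)
  have hW' : (W.subgroupOf T₀).map T₀.subtype = W := map_subgroupOf_eq_of_le (hWU.trans hUT)
  have hU' : (U.subgroupOf T₀).map T₀.subtype = U := map_subgroupOf_eq_of_le hUT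
  refine ⟨V.map T₀.subtype, ?_, ?_, ?_, ?_⟩
  · rw [← hU']; exact map_mono hVU
  · rw [← hW', ← map_inf _ _ _ T₀.subtype_injective, hVW, Subgroup.map_bot]
  · conv_rhs => rw [← hU', ← hsup, Subgroup.map_sup, hW']
  · rintro n hn _ ⟨v, hv, rfl⟩
    exact ⟨ρ ((⟨n, hn⟩ : N) : N ⧸ M) v, hVi _ v hv, hρ _ _⟩

/-- An abelian Sylow 2-subgroup of a simple group with an invariant subgroup of index four
containing all squares is a four group. -/
theorem abelian_four [IsSimpleGroup G] (hG : ¬ IsMulCommutative G) (T : Sylow 2 G)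
    [IsMulCommutative (T : Subgroup G)] {R : Subgroup G} (hRT : R ≤ T)
    (hR : Nat.card (T : Subgroup G) = 4 * Nat.card R) (hsq : ∀ t ∈ (T : Subgroup G), t ^ 2 ∈ R)
    (hinv : ∀ n ∈ normalizer ((T : Subgroup G) : Set G), ∀ r ∈ R, n * r * n⁻¹ ∈ R) :
    IsKleinFour (T : Subgroup G) := by
  set T₀ : Subgroup G := (T : Subgroup G) with hT₀
  set N : Subgroup G := normalizer (T₀ : Set G) with hN
  have hcomm : ∀ a ∈ T₀, ∀ b ∈ T₀, a * b = b * a := fun a ha b hb =>
    congrArg Subtype.val (mul_comm (⟨a, ha⟩ : T₀) ⟨b, hb⟩)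
  have hNT : ∀ n ∈ N, ∀ t ∈ T₀, n * t * n⁻¹ ∈ T₀ := fun n hn t ht => (hn t).1 ht
  have hT1 : T₀ ≠ ⊥ := fun e => by
    rw [e, card_bot] at hR; omega
  obtain ⟨m, hm⟩ : ∃ m, Monoid.exponent T₀ = 2 ^ m := by
    obtain ⟨k, hk⟩ := IsPGroup.iff_card.1 T.2
    obtain ⟨j, -, hj⟩ := (Nat.dvd_prime_pow Nat.prime_two).1 (hk ▸ Group.exponent_dvd_nat_card (G := T₀))
    exact ⟨j, hj⟩
  have hexp : ∀ t ∈ T₀, t ^ 2 ^ m = 1 := fun t ht => by
    have := Monoid.pow_exponent_eq_one (⟨t, ht⟩ : T₀)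
    rw [hm] at this
    exact congrArg Subtype.val this
  have hm1 : 1 ≤ m := Nat.one_le_iff_ne_zero.2 fun e => hT1 <| by
    refine (eq_bot_iff_forall _).2 fun t ht => ?_
    simpa [e] using hexp t ht
  let Ω : Subgroup G :=
    { carrier := {t | t ∈ T₀ ∧ t ^ 2 = 1}
      one_mem' := ⟨one_mem _, one_pow 2⟩
      mul_mem' := fun {a b} ha hb => ⟨mul_mem ha.1 hb.1, by
        rw [(show Commute a b from hcomm a ha.1 b hb.1).mul_pow, ha.2, hb.2, one_mul]⟩
      inv_mem' := fun {a} ha => ⟨inv_mem ha.1, by rw [inv_pow, ha.2, inv_one]⟩ }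
  have hΩi : ∀ n ∈ N, ∀ x ∈ Ω, n * x * n⁻¹ ∈ Ω := fun n hn x hx =>
    ⟨hNT n hn x hx.1, by rw [conj_pow, hx.2, mul_one, mul_inv_cancel]⟩
  have irr : ∀ W : Subgroup G, W ≤ Ω → (∀ n ∈ N, ∀ x ∈ W, n * x * n⁻¹ ∈ W) → W ≠ ⊥ → W = Ω := by
    intro W hW hWi hW1
    obtain ⟨V, hVΩ, hVW, hsup, hVi⟩ := exists_invariant_compl T hW (fun t ht => ht.1)
      (fun t ht => ht.2) hWi hΩi
    by_contra hne
    refine pair_false hG T (stronglyClosed_of_invariant T (fun x hx => (hW hx).1) hWi)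
      (stronglyClosed_of_invariant T (fun x hx => (hVΩ hx).1) hVi)
      (fun a ha b hb => hcomm a (hW ha).1 b (hVΩ hb).1) (by rw [inf_comm]; exact hVW) hW1
      fun e => hne ?_
    rwa [e, sup_bot_eq] at hsup
  -- the last power map
  set q := 2 ^ (m - 1) with hq
  have hq2 : q * 2 = 2 ^ m := by rw [hq, ← pow_succ, show m - 1 + 1 = m by omega]
  let img : Subgroup G → Subgroup G := fun K => ((powMonoidHom q).comp
    (Subgroup.inclusion (inf_le_right : K ⊓ T₀ ≤ T₀))).range.map T₀.subtype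
  have himg : ∀ K : Subgroup G, K ≤ T₀ → ∀ x, x ∈ img K ↔ ∃ t ∈ K, t ^ q = x := by
    intro K hK x
    constructor
    · rintro ⟨_, ⟨t, rfl⟩, rfl⟩
      exact ⟨t, t.2.1, rfl⟩
    · rintro ⟨t, ht, rfl⟩
      exact ⟨_, ⟨⟨t, ht, hK ht⟩, rfl⟩, rfl⟩
  have himgΩ : ∀ K : Subgroup G, K ≤ T₀ → img K ≤ Ω := fun K hK x hx => by
    obtain ⟨t, ht, rfl⟩ := (himg K hK x).1 hx
    exact ⟨pow_mem (hK ht) q, by rw [← pow_mul, hq2]; exact hexp t (hK ht)⟩
  have himgi : ∀ K : Subgroup G, K ≤ T₀ → (∀ n ∈ N, ∀ x ∈ K, n * x * n⁻¹ ∈ K) →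
      ∀ n ∈ N, ∀ x ∈ img K, n * x * n⁻¹ ∈ img K := fun K hK hKi n hn x hx => by
    obtain ⟨t, ht, rfl⟩ := (himg K hK x).1 hx
    exact (himg K hK _).2 ⟨_, hKi n hn t ht, conj_pow⟩
  have htop : img T₀ = Ω := by
    refine irr _ (himgΩ _ le_rfl) (himgi _ le_rfl hNT) fun e => ?_
    have hq1 : Monoid.exponent T₀ ∣ q := by
      refine Monoid.exponent_dvd_of_forall_pow_eq_one fun t => Subtype.ext ?_
      exact mem_bot.1 (e ▸ (himg T₀ le_rfl _).2 ⟨t, t.2, rfl⟩)
    rw [hm] at hq1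
    have := Nat.le_of_dvd (by positivity) hq1
    rw [← hq2] at this
    have : 0 < q := by positivity
    omega
  have hsquare : ∀ j, j < m → ∀ t ∈ T₀, t ^ 2 ^ j = 1 → ∃ w ∈ T₀, w ^ 2 = t := by
    intro j
    induction j with
    | zero => exact fun _ t _ h1 => ⟨1, one_mem _, by rw [one_pow]; simpa using h1.symm⟩
    | succ j ih =>
      intro hj t ht h1
      obtain ⟨w, hw, hwt⟩ := (himg T₀ le_rfl _).1 (htop.ge
        (show t ^ 2 ^ j ∈ Ω from ⟨pow_mem ht _, by rw [← pow_mul, ← pow_succ]; exact h1⟩))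
      set v := w ^ 2 ^ (m - 1 - j - 1) with hv
      have hvT : v ∈ T₀ := pow_mem hw _
      have hvj : (v ^ 2) ^ 2 ^ j = t ^ 2 ^ j := by
        rw [← pow_mul, hv, ← pow_mul, ← hwt, hq]
        congr 1
        rw [← pow_succ', ← pow_add]
        congr 1
        omega
      obtain ⟨w', hw', hw't⟩ := ih (by omega) (t * (v ^ 2)⁻¹)
        (mul_mem ht (inv_mem (pow_mem hvT 2))) (by
          rw [(show Commute t (v ^ 2)⁻¹ from
            hcomm t ht _ (inv_mem (pow_mem hvT 2))).mul_pow, inv_pow, hvj, mul_inv_cancel])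
      refine ⟨w' * v, mul_mem hw' hvT, ?_⟩
      rw [(show Commute w' v from hcomm w' hw' v hvT).mul_pow, hw't, inv_mul_cancel_right]
  have hKR : ∀ t ∈ T₀, t ^ q = 1 → t ∈ R := fun t ht h1 => by
    obtain ⟨w, hw, rfl⟩ := hsquare (m - 1) (by omega) t ht (hq ▸ h1)
    exact hsq w hw
  have hRK : ∀ r ∈ R, r ^ q = 1 := by
    by_contra hcon
    push Not at hcon
    obtain ⟨r, hr, hr1⟩ := hcon
    have hR' : img R = Ω := irr _ (himgΩ R hRT) (himgi R hRT hinv) fun e =>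
      hr1 (mem_bot.1 (e ▸ (himg R hRT _).2 ⟨r, hr, rfl⟩))
    have hle : T₀ ≤ R := fun t ht => by
      obtain ⟨s, hs, hst⟩ := (himg R hRT _).1
        ((hR' ▸ htop : img T₀ = img R).le ((himg T₀ le_rfl _).2 ⟨t, ht, rfl⟩))
      have h1 : t * s⁻¹ ∈ R := hKR _ (mul_mem ht (inv_mem (hRT hs))) (by
        rw [(show Commute t s⁻¹ from hcomm t ht _ (inv_mem (hRT hs))).mul_pow, inv_pow, hst,
          mul_inv_cancel])
      simpa using mul_mem h1 hs
    have h1 := card_le_of_le hle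
    have := Nat.card_pos (α := R)
    omega
  have hΩ4 : Nat.card Ω = 4 := by
    let φ : T₀ →* T₀ := powMonoidHom q
    have h1 : φ.range.map T₀.subtype = Ω := by
      rw [← htop]
      ext x
      rw [himg T₀ le_rfl]
      constructor
      · rintro ⟨_, ⟨t, rfl⟩, rfl⟩
        exact ⟨t, t.2, rfl⟩
      · rintro ⟨t, ht, rfl⟩
        exact ⟨_, ⟨⟨t, ht⟩, rfl⟩, rfl⟩
    have h2 : φ.ker = R.subgroupOf T₀ := by
      ext t
      rw [MonoidHom.mem_ker, mem_subgroupOf]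
      exact ⟨fun h => hKR t t.2 (congrArg Subtype.val h), fun h => Subtype.ext (hRK t h)⟩
    have h3 := φ.ker.card_mul_index
    rw [index_ker, h2, Nat.card_congr (subgroupOfEquivOfLe hRT).toEquiv, hR, mul_comm] at h3
    rw [← h1, card_map_of_injective T₀.subtype_injective]
    exact Nat.eq_of_mul_eq_mul_right Nat.card_pos h3
  rcases Nat.lt_or_ge m 2 with h2 | h2
  · have hm' : m = 1 := by omega
    subst hm'
    refine ⟨?_, by rw [hm]; norm_num⟩
    have : Ω = T₀ := le_antisymm (fun x hx => hx.1) fun x hx => ⟨hx, by simpa using hexp x hx⟩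
    rw [← this, hΩ4]
  exfalso
  -- two generators
  obtain ⟨i1, hi1, hi11⟩ := Ω.bot_or_exists_ne_one.resolve_left fun e => by
    rw [e, card_bot] at hΩ4; omega
  obtain ⟨i2, hi2, hi21⟩ : ∃ i2 ∈ Ω, i2 ∉ zpowers i1 := SetLike.not_le_iff_exists.1 fun hle => by
    have := card_le_of_le hle
    rw [Nat.card_zpowers, orderOf_eq_prime hi1.2 hi11, hΩ4] at this
    omega
  obtain ⟨w1, hw1, hw1i⟩ := (himg T₀ le_rfl _).1 (htop.ge hi1)
  obtain ⟨w2, hw2, hw2i⟩ := (himg T₀ le_rfl _).1 (htop.ge hi2)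
  have i12 : Commute i1 i2 := hcomm i1 hi1.1 i2 hi2.1
  have hgen : ∀ x ∈ Ω, x = 1 ∨ x = i1 ∨ x = i2 ∨ x = i1 * i2 := by
    have n1 : i2 ≠ 1 := fun e => hi21 (e ▸ one_mem _)
    have n2 : i2 ≠ i1 := fun e => hi21 (e ▸ mem_zpowers _)
    have n3 : i1 * i2 ≠ 1 := fun e =>
      hi21 ((eq_inv_of_mul_eq_one_right e).symm ▸ inv_mem (mem_zpowers i1))
    have n4 : i1 * i2 ≠ i1 := fun e => n1 (mul_eq_left.1 e)
    have n5 : i1 * i2 ≠ i2 := fun e => hi11 (mul_eq_right.1 e)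
    have hcard : ({1, i1, i2, i1 * i2} : Set G).ncard = 4 := by
      rw [Set.ncard_insert_of_notMem (by simp [hi11.symm, n1.symm, n3.symm]),
        Set.ncard_insert_of_notMem (by simp [n2.symm, n4.symm]),
        Set.ncard_insert_of_notMem (by simp [n5.symm]), Set.ncard_singleton]
    have hsub : ({1, i1, i2, i1 * i2} : Set G) ⊆ (Ω : Set G) := by
      rintro x (rfl | rfl | rfl | rfl)
      exacts [one_mem Ω, hi1, hi2, mul_mem hi1 hi2]
    have heq := Set.eq_of_subset_of_ncard_le hsub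
      (by rw [← Nat.card_coe_set_eq, hcard]; exact hΩ4.le) (Set.toFinite _)
    intro x hx
    have : x ∈ ({1, i1, i2, i1 * i2} : Set G) := heq ▸ hx
    simpa using this
  have hpar : ∀ a b : ℤ, i1 ^ a * i2 ^ b = 1 → (2 : ℤ) ∣ a ∧ (2 : ℤ) ∣ b := by
    have hz : ∀ i : G, i ^ 2 = 1 → ∀ c : ℤ, i ^ c = i ^ (c % 2) := fun i hi c => by
      conv_lhs => rw [← Int.emod_add_mul_ediv c 2, zpow_add, zpow_mul, zpow_ofNat, hi, one_zpow,
        mul_one]
    intro a b h
    rw [hz i1 hi1.2, hz i2 hi2.2] at h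
    have n2 : i2 ≠ 1 := fun e => hi21 (e ▸ one_mem _)
    rw [Int.dvd_iff_emod_eq_zero, Int.dvd_iff_emod_eq_zero]
    rcases Int.emod_two_eq_zero_or_one a with ha | ha <;>
      rcases Int.emod_two_eq_zero_or_one b with hb | hb <;>
      rw [ha, hb] at h ⊢ <;> simp only [zpow_zero, zpow_one, one_mul, mul_one] at h
    · exact ⟨rfl, rfl⟩
    · exact absurd h n2
    · exact absurd h hi11
    · exact absurd ((eq_inv_of_mul_eq_one_right h).symm ▸ inv_mem (mem_zpowers i1)) hi21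
  have w12 : Commute w1 w2 := hcomm w1 hw1 w2 hw2
  have hinj : ∀ k, k ≤ m → ∀ a b : ℤ, w1 ^ a * w2 ^ b = 1 →
      (2 : ℤ) ^ k ∣ a ∧ (2 : ℤ) ^ k ∣ b := by
    intro k
    induction k with
    | zero => intro _ a b _; simp
    | succ k ih =>
      intro hk a b h
      obtain ⟨⟨a', rfl⟩, ⟨b', rfl⟩⟩ := ih (by omega) a b h
      set v := w1 ^ a' * w2 ^ b' with hvdef
      have h1 : v ^ 2 ^ k = 1 := by
        rw [hvdef, (w12.zpow_zpow a' b').mul_pow, ← zpow_natCast, ← zpow_natCast,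
          ← zpow_mul, ← zpow_mul]
        push_cast
        rw [mul_comm a', mul_comm b']
        exact h
      have h2 : v ^ q = 1 := by
        rw [hq, show m - 1 = k + (m - 1 - k) by omega, pow_add, pow_mul, h1, one_pow]
      have h3 : i1 ^ a' * i2 ^ b' = 1 := by
        rw [← h2, hvdef, (w12.zpow_zpow a' b').mul_pow, ← hw1i, ← hw2i]
        congr 1 <;> rw [← zpow_natCast, ← zpow_natCast, ← zpow_mul, ← zpow_mul, mul_comm]
      obtain ⟨ha, hb⟩ := hpar a' b' h3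
      exact ⟨by rw [pow_succ]; exact mul_dvd_mul_left _ ha,
        by rw [pow_succ]; exact mul_dvd_mul_left _ hb⟩
  let f1 : ZMod (2 ^ m) →+ Additive T₀ := ZMod.lift (2 ^ m)
    ⟨zmultiplesHom (Additive T₀) (Additive.ofMul ⟨w1, hw1⟩), by
      apply Additive.toMul.injective
      show (⟨w1, hw1⟩ : T₀) ^ ((2 ^ m : ℕ) : ℤ) = 1
      exact Subtype.ext (by rw [zpow_natCast]; exact hexp w1 hw1)⟩
  let f2 : ZMod (2 ^ m) →+ Additive T₀ := ZMod.lift (2 ^ m)
    ⟨zmultiplesHom (Additive T₀) (Additive.ofMul ⟨w2, hw2⟩), by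
      apply Additive.toMul.injective
      show (⟨w2, hw2⟩ : T₀) ^ ((2 ^ m : ℕ) : ℤ) = 1
      exact Subtype.ext (by rw [zpow_natCast]; exact hexp w2 hw2)⟩
  let ψ : Multiplicative (ZMod (2 ^ m) × ZMod (2 ^ m)) →* T₀ :=
    AddMonoidHom.toMultiplicativeLeft (f1.coprod f2)
  have hψ : ∀ a b : ℤ, (ψ (Multiplicative.ofAdd ((a : ZMod (2 ^ m)), (b : ZMod (2 ^ m)))) : G) =
      w1 ^ a * w2 ^ b := by
    intro a b
    show ((Additive.toMul (f1 (a : ZMod (2 ^ m)) + f2 (b : ZMod (2 ^ m))) : T₀) : G) = _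
    simp only [f1, f2, ZMod.lift_coe, zmultiplesHom_apply, toMul_add, toMul_zsmul, toMul_ofMul,
      Subgroup.coe_mul, Subgroup.coe_zpow]
  have hbij : Function.Bijective ψ := by
    constructor
    · rw [injective_iff_map_eq_one]
      intro x hx
      obtain ⟨a, ha⟩ := ZMod.intCast_surjective (Multiplicative.toAdd x).1
      obtain ⟨b, hb⟩ := ZMod.intCast_surjective (Multiplicative.toAdd x).2
      have hxe : x = Multiplicative.ofAdd ((a : ZMod (2 ^ m)), (b : ZMod (2 ^ m))) := by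
        rw [ha, hb]; rfl
      have h1 := hψ a b
      rw [← hxe, hx, Subgroup.coe_one] at h1
      obtain ⟨h2, h3⟩ := hinj m le_rfl a b h1.symm
      rw [hxe, (ZMod.intCast_zmod_eq_zero_iff_dvd a (2 ^ m)).2 (by exact_mod_cast h2),
        (ZMod.intCast_zmod_eq_zero_iff_dvd b (2 ^ m)).2 (by exact_mod_cast h3)]
      rfl
    · have hstep : ∀ j, ∀ t ∈ T₀, ∃ x s, s ∈ T₀ ∧ (ψ x : G) * s ^ 2 ^ j = t := by
        intro j
        induction j with
        | zero => exact fun t ht => ⟨1, t, ht, by simp⟩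
        | succ j ih =>
          intro t ht
          obtain ⟨x, s, hs, rfl⟩ := ih t ht
          obtain ⟨a, b, hab⟩ : ∃ a b : ℤ, i1 ^ a * i2 ^ b = s ^ q := by
            rcases hgen _ (htop.le ((himg T₀ le_rfl _).2 ⟨s, hs, rfl⟩)) with e | e | e | e
            exacts [⟨0, 0, by simp [e]⟩, ⟨1, 0, by simp [e]⟩, ⟨0, 1, by simp [e]⟩,
              ⟨1, 1, by simp [e]⟩]
          set y := ψ (Multiplicative.ofAdd ((a : ZMod (2 ^ m)), (b : ZMod (2 ^ m)))) with hy
          have hyq : (y : G) ^ q = s ^ q := by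
            rw [← hab, hy, hψ, (w12.zpow_zpow a b).mul_pow, ← hw1i, ← hw2i]
            congr 1 <;> rw [← zpow_natCast, ← zpow_natCast, ← zpow_mul, ← zpow_mul, mul_comm]
          obtain ⟨r, hr, hrs⟩ := hsquare (m - 1) (by omega) ((y : G)⁻¹ * s)
            (mul_mem (inv_mem y.2) hs) (by
              rw [← hq, (show Commute (y : G)⁻¹ s from hcomm _ (inv_mem y.2) s hs).mul_pow,
                inv_pow, hyq, inv_mul_cancel])
          refine ⟨x * (Multiplicative.ofAdd ((a : ZMod (2 ^ m)), (b : ZMod (2 ^ m)))) ^ 2 ^ j, r,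
            hr, ?_⟩
          rw [map_mul, map_pow, ← hy, Subgroup.coe_mul, Subgroup.coe_pow, pow_succ', pow_mul,
            hrs, mul_assoc, ← (show Commute (y : G) ((y : G)⁻¹ * s) from
              hcomm _ y.2 _ (mul_mem (inv_mem y.2) hs)).mul_pow, mul_inv_cancel_left]
      intro t
      obtain ⟨x, s, hs, hxs⟩ := hstep m t t.2
      exact ⟨x, Subtype.ext (by rw [← hxs, hexp s hs, mul_one])⟩
  have hO : ∀ K : Subgroup G, K.Normal → Odd (Nat.card K) → K = ⊥ := fun K hK hodd => by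
    refine hK.eq_bot_or_eq_top.resolve_right fun e => ?_
    rw [e, card_top] at hodd
    have : 2 ∣ Nat.card G := by
      refine dvd_trans ?_ (card_subgroup_dvd_card T₀)
      rw [hR]; omega
    exact (Nat.not_even_iff_odd.2 hodd) (even_iff_two_dvd.2 this)
  obtain ⟨hn, -, -⟩ := CfsgLib.Block.HomocyclicBrauer.main (P := T)
    (MulEquiv.ofBijective ψ hbij).symm h2 hO
  rcases hn.eq_bot_or_eq_top with e | e
  · exact hT1 e
  · exact hG ⟨⟨fun x y => hcomm x (e.ge (mem_top x)) y (e.ge (mem_top y))⟩⟩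

end CfsgLib.InvChar.CenterFour
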