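import Cfsg.Agent.Lib.InvChar.CenterFour.Abelian
import Cfsg.Agent.Lib.Recog.GW.RankOne
import Cfsg.Agent.Lib.KnownA.AltMult.Alt
import Cfsg.Prelude.Def_CaseTheorems
import Mathlib

/-!
# Quasisimple groups with a Sylow 2-subgroup whose centre has index four

The consequence of the dihedral Sylow 2-subgroup theorem for quasisimple groups whose Sylow
2-subgroup is nonabelian with centre of index four.
-/

set_option autoImplicit false
set_option linter.style.haveILetI false

namespace CfsgLib.InvChar.CenterFour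

open Subgroup
open CfsgLib.Invol.IndexP (Zc Dc SmallCentre)
open scoped commutatorElement

universe u

local instance : Fact (Nat.Prime 2) := ⟨Nat.prime_two⟩

variable {G : Type u} [Group G] [Finite G]

omit [Finite G] in
/-- A central 2-element lies in every Sylow 2-subgroup. -/
theorem central_mem_sylow (S : Sylow 2 G) {z : G} (hz : z ∈ center G) {k : ℕ}
    (hk : z ^ 2 ^ k = 1) : z ∈ (S : Subgroup G) := by
  have hp : IsPGroup 2 (zpowers z) := fun ⟨x, hx⟩ => ⟨k, Subtype.ext (by
    obtain ⟨i, rfl⟩ := mem_zpowers_iff.1 hx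
    show (z ^ i) ^ 2 ^ k = 1
    rw [← zpow_natCast, ← zpow_mul, mul_comm, zpow_mul, zpow_natCast, hk, one_zpow])⟩
  haveI : (zpowers z).Normal := ⟨fun x hx g => by
    have hxc : x ∈ center G := (zpowers_le.2 hz) hx
    rwa [mem_center_iff.1 hxc g, mul_inv_cancel_right]⟩
  exact (S.is_maximal' (IsPGroup.to_sup_of_normal_right S.2 hp) le_sup_left).le
    (mem_sup_right (mem_zpowers z))

/-- The conclusion of the dihedral theorem for a simple group. -/
theorem simple_models (hGW : CfsgLib.Recog.GW.PerfectDihedral.{u}) [IsSimpleGroup G]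
    (hG : ¬ IsMulCommutative G) (T : Sylow 2 G) {n : ℕ} (hn : 2 ≤ n)
    (he : Nonempty ((T : Subgroup G) ≃* DihedralGroup n)) :
    (∃ (F : Type) (_ : Field F) (_ : Fintype F), Odd (Fintype.card F) ∧
        Nonempty (G ≃* Matrix.ProjectiveSpecialLinearGroup (Fin 2) F)) ∨
      Nonempty (G ≃* alternatingGroup (Fin 7)) := by
  haveI : Group.IsPerfect G := ⟨(inferInstance : (_root_.commutator G).Normal).eq_bot_or_eq_top.resolve_left
    fun h => hG ⟨⟨fun a b => commutatorElement_eq_one_iff_mul_comm.1
      (mem_bot.1 (h ▸ commutator_mem_commutator (mem_top a) (mem_top b)))⟩⟩⟩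
  have hcore : Cfsg.oddCore G = ⊥ := by
    refine (Cfsg.pPrimeCore_normal 2 G).eq_bot_or_eq_top.resolve_right fun h => ?_
    have hodd : Odd (Nat.card (Cfsg.pPrimeCore 2 G)) := CfsgLib.Invol.odd_card_oddCore G
    rw [h, card_top] at hodd
    have h2 : 2 ∣ Nat.card G := by
      refine dvd_trans ?_ (card_subgroup_dvd_card (T : Subgroup G))
      rw [Nat.card_congr he.some.toEquiv, DihedralGroup.nat_card]
      exact dvd_mul_right 2 n
    exact (Nat.not_even_iff_odd.2 hodd) (even_iff_two_dvd.2 h2)
  have e0 : G ≃* G ⧸ Cfsg.oddCore G :=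
    QuotientGroup.quotientBot.symm.trans (QuotientGroup.quotientMulEquivOfEq hcore.symm)
  rcases hGW G T n hn he with ⟨F, i, j, ho, -, ⟨e⟩⟩ | ⟨⟨e⟩⟩
  · exact Or.inl ⟨F, i, j, ho, ⟨e0.trans e⟩⟩
  · exact Or.inr ⟨e0.trans e⟩

/-- A quasisimple group whose Sylow 2-subgroup is nonabelian with centre of index four. -/
theorem quasisimple_center_four (hGW : CfsgLib.Recog.GW.PerfectDihedral.{u})
    (hq : Cfsg.IsQuasisimple G) (S : Sylow 2 G) (hna : ¬ IsMulCommutative (S : Subgroup G))
    (hZ : (center (S : Subgroup G)).index = 4) :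
    Nat.card (S : Subgroup G) = 8 ∧
      (Nonempty (G ≃* alternatingGroup (Fin 7)) ∨
        (Nat.card (center G) = 3 ∧ Nonempty (G ⧸ center G ≃* alternatingGroup (Fin 7))) ∨
        ∃ (F : Type) (_ : Field F) (_ : Fintype F), Odd (Fintype.card F) ∧
          Nonempty (G ⧸ center G ≃* Matrix.ProjectiveSpecialLinearGroup (Fin 2) F)) := by
  haveI := hq.1
  haveI := hq.2
  have hperf : _root_.commutator G = ⊤ := Group.IsPerfect.commutator_eq_top
  set π := QuotientGroup.mk' (center G) with hπdef
  have hπ : Function.Surjective π := QuotientGroup.mk'_surjective _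
  have hπ1 : ∀ x : G, π x = 1 ↔ x ∈ center G := fun x => QuotientGroup.eq_one_iff x
  have hG' : ¬ IsMulCommutative (G ⧸ center G) := fun hc => by
    obtain ⟨x, hx⟩ := exists_ne (1 : G ⧸ center G)
    obtain ⟨g, rfl⟩ := hπ x
    refine hx (MonoidHom.mem_ker.1 ?_)
    have hle : _root_.commutator G ≤ π.ker := by
      rw [commutator_def, commutator_le]
      intro a _ b _
      rw [MonoidHom.mem_ker, map_commutatorElement, commutatorElement_eq_one_iff_mul_comm]
      exact hc.is_comm.comm _ _
    exact hle (hperf ▸ mem_top g)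
  have h := smallCentre S.2 hna hZ
  obtain ⟨u, huZ, huo, ⟨a, ha, b, hb, hab⟩, hD⟩ := exists_derived h
  have hcD : ∀ z ∈ (S : Subgroup G), z ∈ center G → z = 1 ∨ z = u := fun z hzS hzc =>
    hD z (CfsgLib.PLocal.central_mem_commutator S hzS hzc (hperf ▸ mem_top z))
  let T : Sylow 2 (G ⧸ center G) := S.mapSurjective hπ
  have hT : (T : Subgroup (G ⧸ center G)) = (S : Subgroup G).map π := Sylow.coe_mapSurjective hπ S
  let r : (S : Subgroup G) →* (T : Subgroup (G ⧸ center G)) :=
    (π.comp (S : Subgroup G).subtype).codRestrict _ fun x => hT ▸ mem_map_of_mem π x.2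
  have hr : Function.Surjective r := by
    rintro ⟨y, hy⟩
    obtain ⟨x, hx, rfl⟩ := mem_map.1 (hT ▸ hy)
    exact ⟨⟨x, hx⟩, rfl⟩
  have hrker : r.ker = (center G).subgroupOf (S : Subgroup G) := by
    ext x
    rw [MonoidHom.mem_ker, mem_subgroupOf, ← hπ1]
    exact ⟨fun e => congrArg Subtype.val e, fun e => Subtype.ext e⟩
  by_cases hu : u ∈ center G
  · -- the quotient has abelian Sylow 2-subgroups
    haveI : IsMulCommutative (T : Subgroup (G ⧸ center G)) := ⟨⟨fun x y => by
      obtain ⟨x, rfl⟩ := hr x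
      obtain ⟨y, rfl⟩ := hr y
      rw [← commutatorElement_eq_one_iff_mul_comm, ← map_commutatorElement, ← MonoidHom.mem_ker,
        hrker, mem_subgroupOf]
      rcases hD (⁅(x : G), (y : G)⁆) (commutator_mem_commutator x.2 y.2) with e | e
      · show ⁅(x : G), (y : G)⁆ ∈ center G
        rw [e]; exact one_mem _
      · show ⁅(x : G), (y : G)⁆ ∈ center G
        rw [e]; exact hu⟩⟩
    have hcz : Nat.card r.ker = 2 := by
      rw [hrker, Nat.card_eq_two_iff' (1 : (center G).subgroupOf (S : Subgroup G))]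
      refine ⟨⟨⟨u, huZ.1⟩, mem_subgroupOf.2 hu⟩,
        fun e => CfsgLib.Invol.invol_ne_one huo (congrArg Subtype.val (congrArg Subtype.val e)),
        fun x hx => Subtype.ext (Subtype.ext ?_)⟩
      exact (hcD x x.1.2 (mem_subgroupOf.1 x.2)).resolve_left fun e =>
        hx (Subtype.ext (Subtype.ext e))
    have hcS : Nat.card (S : Subgroup G) = 2 * Nat.card (T : Subgroup (G ⧸ center G)) := by
      rw [← r.ker.card_mul_index, index_ker, MonoidHom.range_eq_top.2 hr, card_top, hcz]
    set R : Subgroup (G ⧸ center G) := (Zc (S : Subgroup G)).map π with hRdef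
    have hRT : R ≤ (T : Subgroup (G ⧸ center G)) := hT ▸ map_mono inf_le_left
    have hcR : Nat.card (Zc (S : Subgroup G)) = 2 * Nat.card R := by
      let s : (Zc (S : Subgroup G) : Subgroup G) →* R := π.subgroupMap _
      have hsk : s.ker = (center G).subgroupOf (Zc (S : Subgroup G)) := by
        ext x
        rw [MonoidHom.mem_ker, mem_subgroupOf, ← hπ1]
        exact ⟨fun e => congrArg Subtype.val e, fun e => Subtype.ext e⟩
      have hs2 : Nat.card s.ker = 2 := by
        rw [hsk, Nat.card_eq_two_iff' (1 : (center G).subgroupOf (Zc (S : Subgroup G)))]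
        refine ⟨⟨⟨u, huZ⟩, mem_subgroupOf.2 hu⟩,
          fun e => CfsgLib.Invol.invol_ne_one huo (congrArg Subtype.val (congrArg Subtype.val e)),
          fun x hx => Subtype.ext (Subtype.ext ?_)⟩
        exact (hcD x x.1.2.1 (mem_subgroupOf.1 x.2)).resolve_left fun e =>
          hx (Subtype.ext (Subtype.ext e))
      rw [← s.ker.card_mul_index, index_ker, MonoidHom.range_eq_top.2 (π.subgroupMap_surjective _),
        card_top, hs2]
    have h4 : Nat.card (T : Subgroup (G ⧸ center G)) = 4 * Nat.card R := by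
      have := h.card; omega
    have hsq : ∀ t ∈ (T : Subgroup (G ⧸ center G)), t ^ 2 ∈ R := by
      rw [hT]
      rintro _ ⟨x, hx, rfl⟩
      rw [← map_pow]
      exact mem_map_of_mem π (h.pow_mem_Zc hx)
    have hinv : ∀ n ∈ normalizer ((T : Subgroup (G ⧸ center G)) : Set (G ⧸ center G)),
        ∀ y ∈ R, n * y * n⁻¹ ∈ R := by
      intro n hn
      obtain ⟨g, rfl⟩ := hπ n
      have hgS : ∀ {k : G}, π k ∈ normalizer ((T : Subgroup (G ⧸ center G)) : Set (G ⧸ center G)) →
          ∀ x ∈ (S : Subgroup G), k * x * k⁻¹ ∈ (S : Subgroup G) := by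
        intro k hk x hx
        have h1 : π (k * x * k⁻¹) ∈ (T : Subgroup (G ⧸ center G)) := by
          rw [map_mul, map_mul, map_inv]
          exact (hk (π x)).1 (hT ▸ mem_map_of_mem π hx)
        obtain ⟨s, hs, hse⟩ := mem_map.1 (hT ▸ h1)
        set z := s⁻¹ * (k * x * k⁻¹) with hz
        have hzc : z ∈ center G := (hπ1 z).1 (by rw [hz, map_mul, map_inv, hse, inv_mul_cancel])
        obtain ⟨i, hi⟩ := S.2 ⟨x, hx⟩
        obtain ⟨j, hj⟩ := S.2 ⟨s, hs⟩
        have hxi : x ^ 2 ^ i = 1 := congrArg Subtype.val hi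
        have hsj : s ^ 2 ^ j = 1 := congrArg Subtype.val hj
        have hcz : Commute s z := mem_center_iff.1 hzc s
        have hsz : s * z = k * x * k⁻¹ := by rw [hz, mul_inv_cancel_left]
        have hzk : z ^ 2 ^ (i + j) = 1 := by
          have h2 : (s * z) ^ 2 ^ (i + j) = 1 := by
            rw [hsz, conj_pow, pow_add, pow_mul, hxi, one_pow, mul_one, mul_inv_cancel]
          have h3 : s ^ 2 ^ (i + j) = 1 := by rw [pow_add, mul_comm, pow_mul, hsj, one_pow]
          rwa [hcz.mul_pow, h3, one_mul] at h2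
        have := mul_mem hs (central_mem_sylow S hzc hzk)
        rwa [hsz] at this
      rintro _ ⟨x, hx, rfl⟩
      refine ⟨g * x * g⁻¹, ⟨hgS hn x hx.1, fun s hs => ?_⟩, by simp only [map_mul, map_inv]⟩
      have h1 := hgS (k := g⁻¹) (by rw [map_inv]; exact inv_mem hn) s hs
      rw [inv_inv] at h1
      have h2 := (show Commute (g⁻¹ * s * g) x from hx.2 _ h1).map (MulAut.conj g).toMonoidHom
      simpa [mul_assoc] using h2.eq
    have hK := abelian_four hG' T hRT h4 hsq hinv
    haveI := hK
    have hS8 : Nat.card (S : Subgroup G) = 8 := by rw [hcS, hK.card_four]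
    obtain hF | ⟨⟨e⟩⟩ := simple_models hGW hG' T le_rfl IsKleinFour.nonempty_mulEquiv
    · exact ⟨hS8, Or.inr (Or.inr hF)⟩
    · exfalso
      have h8 : 2 ^ 3 ∣ Nat.card (T : Subgroup (G ⧸ center G)) := by
        refine T.pow_dvd_card_of_pow_dvd_card ?_
        rw [Nat.card_congr e.toEquiv, nat_card_alternatingGroup, Nat.card_fin]
        decide
      rw [hK.card_four] at h8
      norm_num at h8
  · -- the quotient has the same Sylow 2-subgroups
    have hinj : Function.Injective r := by
      rw [injective_iff_map_eq_one]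
      intro x hx
      have hxc : (x : G) ∈ center G := mem_subgroupOf.1 (hrker ▸ MonoidHom.mem_ker.2 hx)
      rcases hcD x x.2 hxc with e | e
      · exact Subtype.ext e
      · exact absurd (e ▸ hxc) hu
    let e : (S : Subgroup G) ≃* (T : Subgroup (G ⧸ center G)) := MulEquiv.ofBijective r ⟨hinj, hr⟩
    have hTna : ¬ IsMulCommutative (T : Subgroup (G ⧸ center G)) := fun hc =>
      hna ⟨⟨fun x y => hinj (by rw [map_mul, map_mul]; exact hc.is_comm.comm _ _)⟩⟩
    have hTZ : (center (T : Subgroup (G ⧸ center G))).index = 4 := by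
      have hcen : (center (T : Subgroup (G ⧸ center G))).comap r = center (S : Subgroup G) := by
        ext x
        simp only [mem_comap, mem_center_iff]
        exact ⟨fun hx y => hinj (by rw [map_mul, map_mul]; exact hx (r y)),
          fun hx y => by obtain ⟨y, rfl⟩ := hr y; rw [← map_mul, ← map_mul, hx y]⟩
      rw [← hZ, ← hcen, index_comap_of_surjective _ hr]
    obtain ⟨eT⟩ := sylow_dihedral T hTna hTZ
    have hS8 : Nat.card (S : Subgroup G) = 8 := by
      rw [Nat.card_congr (e.trans eT).toEquiv, DihedralGroup.nat_card]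
    have hodd : ¬ 2 ∣ Nat.card (center G) := fun h2 => by
      obtain ⟨z, hz⟩ := exists_prime_orderOf_dvd_card' 2 h2
      have hz1 : (z : G) ^ 2 ^ 1 = 1 := by
        rw [pow_one, ← hz, ← Subgroup.orderOf_coe z, pow_orderOf_eq_one]
      rcases hcD z (central_mem_sylow S z.2 hz1) z.2 with h1 | h1
      · rw [← Subgroup.orderOf_coe z, h1, orderOf_one] at hz
        omega
      · exact hu (h1 ▸ z.2)
    rcases simple_models hGW hG' T (by norm_num) ⟨eT⟩ with hF | ⟨⟨eA⟩⟩
    · exact ⟨hS8, Or.inr (Or.inr hF)⟩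
    refine ⟨hS8, ?_⟩
    let es : Shrink.{0} G ≃* G := Shrink.mulEquiv
    let σ : Shrink.{0} G →* alternatingGroup (Fin 7) :=
      (eA.toMonoidHom.comp π).comp es.toMonoidHom
    have hker : σ.ker = (center G).comap es.toMonoidHom := by
      ext x
      rw [MonoidHom.mem_ker, mem_comap, ← hπ1]
      exact eA.map_eq_one_iff
    have hstem : Cfsg.IsStemExtension σ := by
      refine ⟨(eA.surjective.comp hπ).comp es.surjective, fun x hx => ?_, fun x _ => ?_⟩
      · rw [hker, mem_comap] at hx
        refine mem_center_iff.2 fun y => es.injective ?_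
        rw [map_mul, map_mul]
        exact mem_center_iff.1 hx (es y)
      · have h1 : (_root_.commutator (Shrink.{0} G)).map es.toMonoidHom = ⊤ := by
          rw [commutator_def, map_commutator, map_top_of_surjective _ es.surjective,
            ← commutator_def, hperf]
        obtain ⟨y, hy, hyx⟩ := mem_map.1 (h1.ge (mem_top (es x)))
        rwa [← es.injective hyx]
    have h6 := CfsgLib.KnownA.AltMult.stemBound_seven (Shrink.{0} G) σ hstem
    rw [hker, card_comap_equiv] at h6
    have hcases : Nat.card (center G) = 1 ∨ Nat.card (center G) = 3 := by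
      have := Nat.le_of_dvd (by norm_num) h6
      interval_cases Nat.card (center G) <;> omega
    rcases hcases with h1 | h1
    · exact Or.inl ⟨(QuotientGroup.quotientBot.symm.trans
        (QuotientGroup.quotientMulEquivOfEq (card_eq_one.1 h1).symm)).trans eA⟩
    · exact Or.inr (Or.inl ⟨h1, ⟨eA⟩⟩)
where
  card_comap_equiv {H K : Type _} [Group H] [Group K] {e : H ≃* K} {L : Subgroup K} :
      Nat.card (L.comap e.toMonoidHom) = Nat.card L :=
    Nat.card_congr (e.toEquiv.subtypeEquiv fun _ => Iff.rfl)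

end CfsgLib.InvChar.CenterFour
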