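import Cfsg.Agent.S5265
import Cfsg.Agent.S5093
import Cfsg.Agent.Lib.Invol.Isolated
import Cfsg.Agent.Lib.InvChar.SimpleInvol
import Cfsg.Agent.Lib.InvChar.CommutingSimple
import Cfsg.Agent.Lib.Comp.SFT.Main
import Cfsg.Agent.Lib.PLocal.TransferFailure
import Cfsg.Agent.Lib.Fusion.GroupFusion
import Cfsg.Agent.Lib.Invol.QWGroups
import Mathlib

/-!
# Simple groups whose Sylow 2-subgroup has centre of index four

A nonabelian Sylow 2-subgroup with centre of index four in a nonabelian simple group is dihedral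
of order eight: the fusion system has trivial core, by Goldschmidt's commutation theorem for
strongly closed subgroups and the Z*-theorem.
-/

set_option autoImplicit false
set_option linter.style.haveILetI false

namespace CfsgLib.InvChar.CenterFour

open Subgroup
open CfsgLib.Invol.IndexP (Zc Dc SmallCentre Base)
open scoped commutatorElement

universe u

variable {G : Type u} [Group G] [Finite G]

local instance : Fact (Nat.Prime 2) := ⟨Nat.prime_two⟩

/-- Two disjoint commuting nontrivial strongly closed subgroups do not occur in a simple group. -/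
theorem pair_false [IsSimpleGroup G] (hG : ¬ IsMulCommutative G) (S : Sylow 2 G)
    {S₁ S₂ : Subgroup G} (h₁ : Cfsg.IsStronglyClosed S₁ (S : Subgroup G))
    (h₂ : Cfsg.IsStronglyClosed S₂ (S : Subgroup G))
    (hc : ∀ a ∈ S₁, ∀ b ∈ S₂, a * b = b * a) (hd : S₁ ⊓ S₂ = ⊥) (n₁ : S₁ ≠ ⊥) (n₂ : S₂ ≠ ⊥) :
    False := by
  have hcom := ComClosed.commutes (fun G _ _ A hA he h8 θ a b c d e =>
    CfsgLib.Comp.SFT.solvable_functor_two A hA he h8 θ a b c d e) G S S₁ S₂ ⟨h₁, h₂, hc, hd⟩
  have ht : ∀ K : Subgroup G, K ≠ ⊥ → normalClosure (K : Set G) = ⊤ := fun K hK =>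
    (normalClosure_normal : (normalClosure (K : Set G)).Normal).eq_bot_or_eq_top.resolve_left
      fun h => hK (eq_bot_iff.2 (h ▸ le_normalClosure))
  rw [ht _ n₁, ht _ n₂, ← _root_.commutator_def] at hcom
  have hperf : _root_.commutator G = ⊤ :=
    (inferInstance : (_root_.commutator G).Normal).eq_bot_or_eq_top.resolve_left fun h =>
      hG ⟨⟨fun a b => commutatorElement_eq_one_iff_mul_comm.1
        (mem_bot.1 (h ▸ commutator_mem_commutator (mem_top a) (mem_top b)))⟩⟩
  rw [hperf, top_le_iff] at hcom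
  have hodd : Odd (Nat.card (Cfsg.oddCore G)) := CfsgLib.Invol.odd_card_oddCore G
  rw [hcom, card_top] at hodd
  obtain ⟨x, hx, hx1⟩ := S₁.bot_or_exists_ne_one.resolve_left n₁
  obtain ⟨k, hk⟩ := S.2 ⟨x, h₁.1 hx⟩
  have hxk : x ^ 2 ^ k = 1 := congrArg Subtype.val hk
  obtain ⟨j, -, hj⟩ := (Nat.dvd_prime_pow Nat.prime_two).1 (orderOf_dvd_of_pow_eq_one hxk)
  have hj0 : j ≠ 0 := fun e => hx1 (orderOf_eq_one_iff.1 (by rw [hj, e, pow_zero]))
  have h2 : (2 : ℕ) ∣ Nat.card G := (dvd_pow_self 2 hj0).trans (hj ▸ orderOf_dvd_natCard x)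
  exact (Nat.not_even_iff_odd.2 hodd) (even_iff_two_dvd.2 h2)

/-- A perfect group has no strongly closed subgroup of index two in a Sylow 2-subgroup. -/
theorem no_closed_index_two (hperf : _root_.commutator G = ⊤) (S : Sylow 2 G) {P : Subgroup G}
    (hP : Cfsg.IsStronglyClosed P (S : Subgroup G))
    (hidx : (P.subgroupOf (S : Subgroup G)).index = 2) : False := by
  have hle : (S : Subgroup G) ≤ P := by
    have h0 : (S : Subgroup G) ≤ (S : Subgroup G).focalSubgroup := by
      rw [← Subgroup.commutator_inf_eq_focalSubgroup S, hperf, top_inf_eq]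
    refine h0.trans ?_
    rw [focalSubgroup_def, closure_le]
    rintro _ ⟨hmem, x, hx, g, rfl⟩
    have hy : g * x⁻¹ * g⁻¹ ∈ (S : Subgroup G) := by
      have := mul_mem (inv_mem hx) hmem
      simpa [commutatorElement_def, mul_assoc] using this
    have e : (⟨⁅x, g⁆, hmem⟩ : (S : Subgroup G)) = ⟨x, hx⟩ * ⟨g * x⁻¹ * g⁻¹, hy⟩ := by
      apply Subtype.ext
      simp [commutatorElement_def, mul_assoc]
    show ⁅x, g⁆ ∈ P
    suffices h : (⟨⁅x, g⁆, hmem⟩ : (S : Subgroup G)) ∈ P.subgroupOf (S : Subgroup G) from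
      mem_subgroupOf.1 h
    rw [e, mul_mem_iff_of_index_two hidx, mem_subgroupOf, mem_subgroupOf]
    refine ⟨fun h => hP.2 x⁻¹ (inv_mem h) g hy, fun h => ?_⟩
    have h1 := hP.2 _ h g⁻¹ (by simpa [mul_assoc] using inv_mem hx)
    simpa [mul_assoc] using h1
  rw [subgroupOf_eq_top.2 hle, index_top] at hidx
  omega

omit [Finite G] in
/-- The hypothesis in the form of the index-four kit. -/
theorem smallCentre {S : Subgroup G} (hS : IsPGroup 2 S) (hna : ¬ IsMulCommutative S)
    (hZ : (center S).index = 4) : SmallCentre 2 S :=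
  ⟨hS, hna, by
    rw [← (center S).card_mul_index, hZ, CfsgLib.Invol.IndexP.card_Zc]
    ring⟩

/-- The derived subgroup of a 2-group with centre of index four is a central group of order two. -/
theorem exists_derived {S : Subgroup G} (h : SmallCentre 2 S) :
    ∃ u, u ∈ Zc S ∧ orderOf u = 2 ∧ (∃ a ∈ S, ∃ b ∈ S, ⁅a, b⁆ = u) ∧
      ∀ d ∈ ⁅S, S⁆, d = 1 ∨ d = u := by
  obtain ⟨a, ha, b, hb, hab⟩ : ∃ a ∈ S, ∃ b ∈ S, a * b ≠ b * a := by
    by_contra hc
    push Not at hc
    exact h.na ⟨⟨fun x y => Subtype.ext (hc x x.2 y y.2)⟩⟩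
  set A := Zc S ⊔ zpowers a with hA
  have hAS : A ≤ S := sup_le inf_le_left (zpowers_le.2 ha)
  have hc : ∀ x ∈ A, Commute x a := by
    have hle : A ≤ centralizer ({a} : Set G) := sup_le
      (fun z hz => mem_centralizer_singleton_iff.2
        (CfsgLib.Invol.IndexP.commute_of_mem_Zc hz ha).eq)
      (zpowers_le.2 (mem_centralizer_singleton_iff.2 rfl))
    exact fun x hx => mem_centralizer_singleton_iff.1 (hle hx)
  have hab' : IsMulCommutative A := by
    refine ⟨⟨fun x y => Subtype.ext ?_⟩⟩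
    have hle : A ≤ centralizer ({(y : G)} : Set G) := sup_le
      (fun z hz => mem_centralizer_singleton_iff.2
        (CfsgLib.Invol.IndexP.commute_of_mem_Zc hz (hAS y.2)).eq)
      (zpowers_le.2 (mem_centralizer_singleton_iff.2 (hc y y.2).symm.eq))
    exact mem_centralizer_singleton_iff.1 (hle x.2)
  have hAlt : A < S := lt_of_le_of_ne hAS fun e => h.na (e ▸ hab')
  have hZA : Zc S < A := lt_of_le_of_ne le_sup_left fun e =>
    hab (CfsgLib.Invol.IndexP.commute_of_mem_Zc (e.ge (mem_sup_right (mem_zpowers a))) hb).eq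
  obtain ⟨hSA, -⟩ := h.card_mid hZA hAlt
  have hidx : (A.subgroupOf S).index = 2 := by
    have h1 := card_mul_index (A.subgroupOf S)
    rw [Nat.card_congr (subgroupOfEquivOfLe hAS).toEquiv, hSA, mul_comm 2] at h1
    exact Nat.eq_of_mul_eq_mul_left Nat.card_pos h1
  have hcD : Nat.card (Dc S) = 2 := h.card_Dc ⟨h.pgroup, h.na, hAS, hab', hidx⟩
  have hD : Dc S = ⁅S, S⁆ := map_subtype_commutator S
  have hu1 : ⁅a, b⁆ ≠ 1 := fun e => hab (commutatorElement_eq_one_iff_mul_comm.1 e)
  have hmem : ∀ d ∈ ⁅S, S⁆, d = 1 ∨ d = ⁅a, b⁆ := fun d hd => by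
    rw [← hD] at hd
    by_cases hd1 : d = 1
    · exact Or.inl hd1
    · exact Or.inr (congrArg Subtype.val
        (((Nat.card_eq_two_iff' (1 : Dc S)).1 hcD).unique (y₁ := ⟨d, hd⟩)
          (y₂ := ⟨_, CfsgLib.Invol.IndexP.comm_mem_Dc ha hb⟩)
          (fun e => hd1 (congrArg Subtype.val e)) (fun e => hu1 (congrArg Subtype.val e))))
  have huS : ⁅a, b⁆ ∈ ⁅S, S⁆ := commutator_mem_commutator ha hb
  refine ⟨_, ⟨(hD.symm ▸ (CfsgLib.Invol.IndexP.Dc_le : Dc S ≤ S) :) huS, fun s hs => ?_⟩,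
    orderOf_eq_prime ?_ hu1, ⟨a, ha, b, hb, rfl⟩, hmem⟩
  · have h1 : s * ⁅a, b⁆ * s⁻¹ ∈ ⁅S, S⁆ := by
      have e : s * ⁅a, b⁆ * s⁻¹ = ⁅s * a * s⁻¹, s * b * s⁻¹⁆ := by
        simp only [commutatorElement_def]; group
      rw [e]
      exact commutator_mem_commutator (mul_mem (mul_mem hs ha) (inv_mem hs))
        (mul_mem (mul_mem hs hb) (inv_mem hs))
    rcases hmem _ h1 with e | e
    · exact absurd (conj_eq_one_iff.1 e) hu1
    · exact mul_inv_eq_iff_eq_mul.1 e
  · rcases hmem _ (pow_mem huS 2) with e | e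
    · exact e
    · rw [sq, mul_eq_left] at e
      exact absurd e hu1

section Normal

variable {S : Sylow 2 G} {Q : Subgroup G}

/-- Every fusion of elements is realised in the normaliser of a normal subgroup of the system. -/
theorem exists_normalizer_conj
    (hQ : (Cfsg.groupFusionSystem (S : Subgroup G)).IsNormal Q) {x g : G}
    (hx : x ∈ (S : Subgroup G)) (hg : g * x * g⁻¹ ∈ (S : Subgroup G)) :
    ∃ h ∈ normalizer (Q : Set G), h * x * h⁻¹ = g * x * g⁻¹ := by
  have hφ : Cfsg.conjHom (zpowers x) g ∈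
      (Cfsg.groupFusionSystem (S : Subgroup G)).Hom (zpowers x) := by
    refine ⟨zpowers_le.2 hx, fun y => ?_, g, fun y => rfl⟩
    obtain ⟨n, hn⟩ := mem_zpowers_iff.1 y.2
    show g * (y : G) * g⁻¹ ∈ (S : Subgroup G)
    rw [← hn, ← conj_zpow]
    exact zpow_mem hg n
  obtain ⟨ψ, ⟨-, -, h, hh⟩, hψ, hψQ⟩ := hQ.2 _ _ hφ
  haveI : Finite (Q : Set G) := inferInstanceAs (Finite Q)
  refine ⟨h, mem_normalizer_fintype fun q hq => ?_, ?_⟩
  · rw [SetLike.mem_coe] at hq ⊢
    have hm : ψ ⟨q, mem_sup_right hq⟩ ∈ (Q.subgroupOf (zpowers x ⊔ Q)).map ψ :=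
      mem_map_of_mem _ (mem_subgroupOf.2 hq)
    rw [hψQ, hh] at hm
    exact hm
  · have h1 := hψ ⟨x, mem_zpowers x⟩
    rw [hh] at h1
    exact h1

variable [IsSimpleGroup G]

/-- In a simple group no nontrivial subgroup is normal in the 2-fusion system. -/
theorem eq_bot_of_isNormal (hG : ¬ IsMulCommutative G) (h : SmallCentre 2 (S : Subgroup G))
    (hQ : (Cfsg.groupFusionSystem (S : Subgroup G)).IsNormal Q) : Q = ⊥ := by
  by_contra hne
  obtain ⟨u, huZ, huo, ⟨a, ha, b, hb, hab⟩, hD⟩ := exists_derived h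
  have hiso : ¬ ∀ g : G, g * u * g⁻¹ ∈ (S : Subgroup G) → g * u * g⁻¹ = u := fun hf =>
    not_isolated_of_simple hG (CfsgLib.Invol.isolated_of_sylow S huo huZ.1 hf)
  have hconjD : ∀ {k c d : G}, ⁅c, d⁆ = u → k * c * k⁻¹ ∈ (S : Subgroup G) →
      k * d * k⁻¹ ∈ (S : Subgroup G) → k * u * k⁻¹ = u := by
    intro k c d hcd hc hd
    have e : k * u * k⁻¹ = ⁅k * c * k⁻¹, k * d * k⁻¹⁆ := by
      rw [← hcd]; simp only [commutatorElement_def]; group
    rcases hD _ (e ▸ commutator_mem_commutator hc hd) with h1 | h1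
    · exact absurd (conj_eq_one_iff.1 h1) (CfsgLib.Invol.invol_ne_one huo)
    · exact h1
  by_cases hQZ : Q ≤ Zc (S : Subgroup G)
  · by_cases huQ : u ∈ Q
    · refine hiso fun g hg => ?_
      obtain ⟨k, hk, hku⟩ := exists_normalizer_conj hQ huZ.1 hg
      have hv : k * u * k⁻¹ ∈ Q := (hk _).1 huQ
      obtain ⟨n, hn, hnu⟩ := S.conj_eq_normalizer_conj_of_mem_centralizer u g⁻¹
        (fun s hs => huZ.2 s hs)
        (fun s hs => by
          have := (hQZ hv).2 s hs
          simpa [hku, mul_assoc] using this)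
      rw [inv_inv] at hnu
      have hn' := inv_mem hn
      have h1 := hconjD (k := n⁻¹) hab ((hn' a).1 ha) ((hn' b).1 hb)
      rw [inv_inv] at h1
      rw [hnu, h1]
    · set C := centralizer (Q : Set G) with hC
      have hSC : (S : Subgroup G) ≤ C := fun s hs =>
        mem_centralizer_iff.2 fun q hq => ((hQZ hq).2 s hs).symm
      set D := (S : Subgroup G) ⊓ ⁅C, C⁆ with hDdef
      have huD : u ∈ D := ⟨huZ.1, hab ▸ commutator_mem_commutator (hSC ha) (hSC hb)⟩
      have hDcl : Cfsg.IsStronglyClosed D (S : Subgroup G) := by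
        refine ⟨inf_le_left, fun x hx g hg => ⟨hg, ?_⟩⟩
        obtain ⟨k, hk, hkx⟩ := exists_normalizer_conj hQ hx.1 hg
        rw [← hkx]
        have hkC : C.map (MulAut.conj k).toMonoidHom ≤ C := by
          rintro _ ⟨c, hc, rfl⟩
          refine mem_centralizer_iff.2 fun q hq => ?_
          have h1 : Commute (k⁻¹ * q * k) c :=
            mem_centralizer_iff.1 hc _ (by simpa using ((inv_mem hk) q).1 hq)
          have h2 := h1.map (MulAut.conj k).toMonoidHom
          simpa [mul_assoc] using h2.eq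
        have hle : ⁅C, C⁆.map (MulAut.conj k).toMonoidHom ≤ ⁅C, C⁆ := by
          rw [map_commutator]
          exact commutator_mono hkC hkC
        exact hle ⟨x, hx.2, rfl⟩
      have hQcl : Cfsg.IsStronglyClosed Q (S : Subgroup G) := ⟨hQ.1, fun x hx g hg => by
        obtain ⟨k, hk, hkx⟩ := exists_normalizer_conj hQ (hQ.1 hx) hg
        exact hkx ▸ (hk x).1 hx⟩
      have hdisj : D ⊓ Q = ⊥ := by
        rw [eq_bot_iff]
        intro z hz
        have hzC : z ∈ C := hSC hz.1.1
        have hzd : (⟨z, hzC⟩ : C) ∈ _root_.commutator C := by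
          have h1 : z ∈ (_root_.commutator C).map C.subtype := by
            rw [map_subtype_commutator]; exact hz.1.2
          obtain ⟨w, hw, hwz⟩ := h1
          rwa [← show w = ⟨z, hzC⟩ from Subtype.ext hwz]
        have hzc : (⟨z, hzC⟩ : C) ∈ center C :=
          mem_center_iff.2 fun c => Subtype.ext (mem_centralizer_iff.1 c.2 z hz.2).symm
        have h2 := CfsgLib.PLocal.central_mem_commutator (S.subtype hSC)
          (show (⟨z, hzC⟩ : C) ∈ ((S.subtype hSC : Sylow 2 C) : Subgroup C) from hz.1.1) hzc hzd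
        have h3 := mem_map_of_mem C.subtype h2
        rw [Sylow.coe_subtype, map_commutator, map_subgroupOf_eq_of_le hSC] at h3
        rcases hD z h3 with e | e
        · exact mem_bot.2 e
        · exact absurd (e ▸ hz.2) huQ
      refine pair_false hG S hDcl hQcl (fun x hx q hq => (hQZ hq).2 x hx.1) hdisj ?_ hne
      exact fun e => CfsgLib.Invol.invol_ne_one huo (mem_bot.1 (e ▸ huD))
  · obtain ⟨q, hq, hqZ⟩ := SetLike.not_le_iff_exists.1 hQZ
    by_cases hQab : IsMulCommutative Q
    · set P := (S : Subgroup G) ⊓ centralizer (Q : Set G) with hPdef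
      have hQP : Q ≤ P := le_inf hQ.1 fun x hx => mem_centralizer_iff.2 fun y hy =>
        congrArg Subtype.val (hQab.is_comm.comm ⟨y, hy⟩ ⟨x, hx⟩)
      have hZP : Zc (S : Subgroup G) < P := by
        refine lt_of_le_not_ge (fun z hz => ⟨hz.1, mem_centralizer_iff.2 fun y hy =>
          hz.2 y (hQ.1 hy)⟩) fun hle => hqZ (hle (hQP hq))
      have hPS : P < (S : Subgroup G) := by
        refine lt_of_le_not_ge inf_le_left fun hle => hqZ ⟨hQ.1 hq, fun s hs => ?_⟩
        exact (mem_centralizer_iff.1 (hle hs).2 q hq).symm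
      obtain ⟨hSP, -⟩ := h.card_mid hZP hPS
      have hidx : (P.subgroupOf (S : Subgroup G)).index = 2 := by
        have h1 := card_mul_index (P.subgroupOf (S : Subgroup G))
        rw [Nat.card_congr (subgroupOfEquivOfLe hPS.le).toEquiv, hSP, mul_comm 2] at h1
        exact Nat.eq_of_mul_eq_mul_left Nat.card_pos h1
      have hperf : _root_.commutator G = ⊤ :=
        (inferInstance : (_root_.commutator G).Normal).eq_bot_or_eq_top.resolve_left fun h =>
          hG ⟨⟨fun a b => commutatorElement_eq_one_iff_mul_comm.1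
            (mem_bot.1 (h ▸ commutator_mem_commutator (mem_top a) (mem_top b)))⟩⟩
      refine no_closed_index_two hperf S ⟨hPS.le, fun x hx g hg => ⟨hg, ?_⟩⟩ hidx
      obtain ⟨k, hk, hkx⟩ := exists_normalizer_conj hQ hx.1 hg
      rw [← hkx]
      refine mem_centralizer_iff.2 fun y hy => ?_
      have h1 : Commute (k⁻¹ * y * k) x :=
        mem_centralizer_iff.1 hx.2 _ (by simpa using ((inv_mem hk) y).1 hy)
      have h2 := h1.map (MulAut.conj k).toMonoidHom
      simpa [mul_assoc] using h2.eq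
    · obtain ⟨c, hc, d, hd, hcd⟩ : ∃ c ∈ Q, ∃ d ∈ Q, c * d ≠ d * c := by
        by_contra hcon
        push Not at hcon
        exact hQab ⟨⟨fun x y => Subtype.ext (hcon x x.2 y y.2)⟩⟩
      have hcdu : ⁅c, d⁆ = u := (hD _ (commutator_mem_commutator (hQ.1 hc) (hQ.1 hd))).resolve_left
        fun e => hcd (commutatorElement_eq_one_iff_mul_comm.1 e)
      refine hiso fun g hg => ?_
      obtain ⟨k, hk, hku⟩ := exists_normalizer_conj hQ huZ.1 hg
      rw [← hku]
      exact hconjD hcdu (hQ.1 ((hk c).1 hc)) (hQ.1 ((hk d).1 hd))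

end Normal

/-- A simple group with a nonabelian Sylow 2-subgroup whose centre has index four has dihedral
Sylow 2-subgroups of order eight. -/
theorem sylow_dihedral [IsSimpleGroup G] (S : Sylow 2 G)
    (hna : ¬ IsMulCommutative (S : Subgroup G)) (hZ : (center (S : Subgroup G)).index = 4) :
    Nonempty ((S : Subgroup G) ≃* DihedralGroup 4) := by
  have hG : ¬ IsMulCommutative G := fun h =>
    hna ⟨⟨fun a b => Subtype.ext (h.is_comm.comm (a : G) b)⟩⟩
  have h := smallCentre S.2 hna hZ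
  have hcore : (Cfsg.groupFusionSystem (S : Subgroup G)).core = ⊥ :=
    eq_bot_iff.2 (sSup_le fun Q hQ => (eq_bot_of_isNormal hG h hQ).le)
  have hne : (S : Subgroup G) ≠ ⊥ := fun e =>
    hna ⟨⟨fun a b => Subtype.ext (by
      rw [Subgroup.coe_mul, Subgroup.coe_mul, mem_bot.1 (e.le a.2), mem_bot.1 (e.le b.2)])⟩⟩
  have hnoidx : ∀ H : Subgroup G, H.index ≠ 2 := fun H hH => by
    haveI := normal_of_index_eq_two hH
    rcases (inferInstance : H.Normal).eq_bot_or_eq_top with e | e
    · subst e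
      rw [index_bot] at hH
      haveI := Fact.mk Nat.prime_two
      haveI : IsCyclic G := isCyclic_of_prime_card hH
      exact hG inferInstance
    · rw [e, index_top] at hH
      omega
  have hhyp : (Cfsg.groupFusionSystem (S : Subgroup G)).hyperfocalSubgroup 2 =
      (S : Subgroup G) := by
    rw [Cfsg.Agent.S5093.result, CfsgLib.Invol.pResidual_eq_top_of_no_index_two hnoidx,
      inf_top_eq]
  exact (Cfsg.Agent.S5265.result 2 S.2 _ (CfsgLib.Fusion.group_isSaturated S) hne hcore hhyp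
    (by rw [hZ]; norm_num)).2.2.2 rfl

end CfsgLib.InvChar.CenterFour
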